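import Groth.Agent.SMTLib.GradedDim

/-!
# Homogeneous systems of parameters of one degree
-/

universe u

namespace SegreLib

section NatGrading

variable {k : Type u} [Field k] {A : Type u} [CommRing A] [Algebra k A] (𝒜 : ℕ → Submodule k A) [GradedAlgebra 𝒜]

lemma minimalPrime_isHomogeneous {I P : Ideal A} (hI : I.IsHomogeneous 𝒜) (hP : P ∈ I.minimalPrimes) :
    P.IsHomogeneous 𝒜 := by
  have h1 : I ≤ (P.homogeneousCore 𝒜).toIdeal := by
    rw [← hI.toIdeal_homogeneousCore_eq_self]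
    exact Ideal.homogeneousCore_mono 𝒜 hP.1.2
  have h2 := P.toIdeal_homogeneousCore_le 𝒜
  rw [le_antisymm (hP.2 ⟨hP.1.1.homogeneousCore, h1⟩ h2) h2]
  exact HomogeneousIdeal.isHomogeneous _

/-- Homogeneous prime avoidance, for an antichain. -/
lemma exists_homogeneous_notMem (s : Finset (Ideal A)) (hp : ∀ P ∈ s, P.IsPrime) (hh : ∀ P ∈ s, P.IsHomogeneous 𝒜)
    (hanti : ∀ P ∈ s, ∀ Q ∈ s, P ≤ Q → P = Q)
    (hirr : ∀ P ∈ s, ¬ (HomogeneousIdeal.irrelevant 𝒜).toIdeal ≤ P) :
    ∃ (n : ℕ) (x : A), 0 < n ∧ x ∈ 𝒜 n ∧ ∀ P ∈ s, x ∉ P := by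
  classical
  have hsep : ∀ P ∈ s, ∀ I : Ideal A, I.IsHomogeneous 𝒜 → ¬ I ≤ P → ∃ (n : ℕ) (e : A), e ∈ 𝒜 n ∧ e ∈ I ∧ e ∉ P := by
    intro P _ I hI hIP
    obtain ⟨a, ha, haP⟩ := SetLike.not_le_iff_exists.1 hIP
    rw [← DirectSum.sum_support_decompose 𝒜 a] at haP
    by_contra h
    push_neg at h
    exact haP (Ideal.sum_mem _ fun i _ => h i _ (SetLike.coe_mem _) (hI i ha))
  have hpos : ∀ P ∈ s, ∃ (n : ℕ) (e : A), 0 < n ∧ e ∈ 𝒜 n ∧ e ∉ P ∧ ∀ Q ∈ s, Q ≠ P → e ∈ Q := by
    intro P hP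
    obtain ⟨n₀, u, hun, hui, huP⟩ := hsep P hP _ (HomogeneousIdeal.isHomogeneous _) (hirr P hP)
    have hn₀ : 0 < n₀ := by
      rcases Nat.eq_zero_or_pos n₀ with rfl | h
      · exfalso
        rw [HomogeneousIdeal.mem_iff, HomogeneousIdeal.mem_irrelevant_iff, GradedRing.proj_apply,
          DirectSum.decompose_of_mem_same 𝒜 hun] at hui
        exact huP (hui ▸ P.zero_mem)
      · exact h
    choose! n e he heI heP using fun Q (hQ : Q ∈ s.erase P) => hsep P hP Q (hh Q (Finset.mem_of_mem_erase hQ))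
      (fun h => Finset.ne_of_mem_erase hQ (hanti Q (Finset.mem_of_mem_erase hQ) P hP h))
    refine ⟨n₀ + ∑ Q ∈ s.erase P, n Q, u * ∏ Q ∈ s.erase P, e Q, by omega,
      SetLike.mul_mem_graded hun (SetLike.prod_mem_graded 𝒜 _ _ he), ?_, fun Q hQ hQP => ?_⟩
    · intro h
      rcases (hp P hP).mem_or_mem h with h | h
      · exact huP h
      · haveI := hp P hP
        obtain ⟨Q, hQ, hQe⟩ := Ideal.IsPrime.prod_mem_iff.1 h
        exact heP Q hQ hQe
    · exact Ideal.mul_mem_left _ _ (Ideal.mem_of_dvd _ (Finset.dvd_prod_of_mem e (Finset.mem_erase.2 ⟨hQP, hQ⟩)) (heI Q (Finset.mem_erase.2 ⟨hQP, hQ⟩)))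
  choose! n e hn he heP heQ using hpos
  let L := (∏ P ∈ s, n P)
  have hL : 0 < L := Finset.prod_pos hn
  refine ⟨L, ∑ P ∈ s, e P ^ (L / n P), hL, Submodule.sum_mem _ fun P hP => ?_, fun P hP h => ?_⟩
  · have := SetLike.pow_mem_graded (L / n P) (he P hP)
    rwa [smul_eq_mul, Nat.div_mul_cancel (Finset.dvd_prod_of_mem n hP)] at this
  · have hpow : ∀ Q ∈ s, 0 < L / n Q := fun Q hQ =>
      Nat.div_pos (Nat.le_of_dvd hL (Finset.dvd_prod_of_mem n hQ)) (hn Q hQ)
    rw [← Finset.add_sum_erase _ _ hP] at h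
    have h2 : (∑ Q ∈ s.erase P, e Q ^ (L / n Q)) ∈ P := Ideal.sum_mem _ fun Q hQ =>
      Ideal.pow_mem_of_mem _ (heQ Q (Finset.mem_of_mem_erase hQ) P hP (Finset.ne_of_mem_erase hQ).symm) _
        (hpow Q (Finset.mem_of_mem_erase hQ))
    exact heP P hP ((hp P hP).mem_of_pow_mem _ ((Ideal.add_mem_iff_left _ h2).1 h))

variable [IsNoetherianRing A]

/-- Homogeneous parameters, at most as many as the dimension. -/
theorem exists_parameters (h0 : ∀ a ∈ 𝒜 0, ∃ c : k, algebraMap k A c = a) : ∀ (d : ℕ) (J : Ideal A),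
    J.IsHomogeneous 𝒜 → J ≤ (HomogeneousIdeal.irrelevant 𝒜).toIdeal → ringKrullDim (A ⧸ J) ≤ (d : WithBot ℕ∞) →
    ∃ l : List (ℕ × A), l.length ≤ d ∧ (∀ p ∈ l, 0 < p.1 ∧ p.2 ∈ 𝒜 p.1) ∧
      (HomogeneousIdeal.irrelevant 𝒜).toIdeal ≤ (J ⊔ Ideal.ofList (l.map Prod.snd)).radical := by
  intro d
  induction d with
  | zero =>
    intro J hJ hJm hdim
    refine ⟨[], le_rfl, by simp, fun a ha => ?_⟩
    rw [List.map_nil, Ideal.ofList_nil, sup_bot_eq, Ideal.radical_eq_sInf, Ideal.mem_sInf]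
    rintro P ⟨hP, hPp⟩
    obtain ⟨Q, hQ, hQP⟩ := Ideal.exists_minimalPrimes_le (show J ≤ P from hP)
    have hQh := minimalPrime_isHomogeneous 𝒜 hJ hQ
    haveI : Nontrivial A := ⟨⟨0, 1, fun h => hPp.ne_top ((Ideal.eq_top_iff_one _).2 (h ▸ P.zero_mem))⟩⟩
    have hm := SMTLib.irrelevant_isMaximal 𝒜 h0
    have hQm := SMTLib.le_irrelevant_of_isHomogeneous 𝒜 h0 hQh hQ.1.1.ne_top
    suffices Q = (HomogeneousIdeal.irrelevant 𝒜).toIdeal from hQP (this ▸ ha)
    by_contra hne
    have hlt : (⟨⟨Q, hQ.1.1⟩, hQ.1.2⟩ : PrimeSpectrum.zeroLocus (J : Set A)) < ⟨⟨_, hm.isPrime⟩, hJm⟩ :=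
      lt_of_le_of_ne hQm (fun h => hne (congrArg (fun q => q.1.asIdeal) h))
    rw [ringKrullDim_quotient] at hdim
    let l : LTSeries (PrimeSpectrum.zeroLocus (J : Set A)) :=
      (RelSeries.singleton _ (⟨⟨Q, hQ.1.1⟩, hQ.1.2⟩ : PrimeSpectrum.zeroLocus (J : Set A))).snoc _ hlt
    have := (Order.LTSeries.length_le_krullDim l).trans hdim
    have hl : l.length = 1 := rfl
    rw [hl] at this
    norm_cast at this
  | succ d ih =>
    intro J hJ hJm hdim
    by_cases hrad : (HomogeneousIdeal.irrelevant 𝒜).toIdeal ≤ J.radical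
    · exact ⟨[], Nat.zero_le _, by simp, by rw [List.map_nil, Ideal.ofList_nil, sup_bot_eq]; exact hrad⟩
    classical
    let s := (J.finite_minimalPrimes_of_isNoetherianRing A).toFinset
    have hs : ∀ {P}, P ∈ s ↔ P ∈ J.minimalPrimes := fun {P} => Set.Finite.mem_toFinset _
    obtain ⟨n, x, hn, hx, hxP⟩ := exists_homogeneous_notMem 𝒜 s (fun P hP => (hs.1 hP).1.1)
      (fun P hP => minimalPrime_isHomogeneous 𝒜 hJ (hs.1 hP))
      (fun P hP Q hQ hle => le_antisymm hle ((hs.1 hQ).2 (hs.1 hP).1 hle))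
      (fun P hP hle => hrad (by
        intro a ha
        rw [Ideal.radical_eq_sInf, Ideal.mem_sInf]
        rintro P' ⟨hP', hP'p⟩
        obtain ⟨Q, hQ, hQP⟩ := Ideal.exists_minimalPrimes_le (show J ≤ P' from hP')
        exact hQP ((hs.1 hP).2 hQ.1 ((SMTLib.le_irrelevant_of_isHomogeneous 𝒜 h0
          (minimalPrime_isHomogeneous 𝒜 hJ hQ) hQ.1.1.ne_top).trans hle) (hle ha))))
    set J' := J ⊔ Ideal.span {x} with hJ'
    have hJ'h : J'.IsHomogeneous 𝒜 :=
      hJ.sup (Ideal.homogeneous_span _ _ fun y hy => ⟨n, Set.mem_singleton_iff.1 hy ▸ hx⟩)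
    have hxm : x ∈ (HomogeneousIdeal.irrelevant 𝒜).toIdeal := by
      rw [HomogeneousIdeal.mem_iff, HomogeneousIdeal.mem_irrelevant_iff, GradedRing.proj_apply,
        DirectSum.decompose_of_mem_ne 𝒜 hx hn.ne']
    have hdim' : ringKrullDim (A ⧸ J') ≤ (d : WithBot ℕ∞) := by
      rw [ringKrullDim_quotient, Order.krullDim]
      refine iSup_le fun l => ?_
      obtain ⟨Q, hQ, hQl⟩ := Ideal.exists_minimalPrimes_le
        (show J ≤ (l.head : PrimeSpectrum A).asIdeal from fun y hy => l.head.2 (Ideal.mem_sup_left hy))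
      let l' : LTSeries (PrimeSpectrum.zeroLocus (J : Set A)) :=
        ⟨l.length, fun i => ⟨(l i).1, fun y hy => (l i).2 (Ideal.mem_sup_left hy)⟩, fun i => l.step i⟩
      have hlt : (⟨⟨Q, hQ.1.1⟩, hQ.1.2⟩ : PrimeSpectrum.zeroLocus (J : Set A)) < l'.head :=
        lt_of_le_of_ne hQl fun h => hxP Q (hs.2 hQ)
          (show x ∈ Q by
            have h1 : Q = (l.head : PrimeSpectrum A).asIdeal := congrArg (fun q => q.1.asIdeal) h
            exact h1 ▸ l.head.2 (Ideal.mem_sup_right (Ideal.mem_span_singleton_self x)))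
      rw [ringKrullDim_quotient] at hdim
      have h := (Order.LTSeries.length_le_krullDim (l'.cons _ hlt)).trans hdim
      have h1 : (l'.cons _ hlt).length = l.length + 1 := RelSeries.cons_length _ _ _
      rw [h1] at h
      norm_cast at h ⊢
      omega
    obtain ⟨l, hlen, hhom, hl⟩ := ih J' hJ'h (sup_le hJm ((Ideal.span_singleton_le_iff_mem _).2 hxm)) hdim'
    refine ⟨(n, x) :: l, by simpa using hlen, ?_, ?_⟩
    · intro p hp
      rcases List.mem_cons.1 hp with rfl | h
      · exact ⟨hn, hx⟩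
      · exact hhom p h
    · rw [List.map_cons, Ideal.ofList_cons, ← sup_assoc]; exact hl

/-- The pieces are finite-dimensional. -/
lemma finite_piece (h0 : ∀ a ∈ 𝒜 0, ∃ c : k, algebraMap k A c = a) (n : ℕ) : Module.Finite k (𝒜 n) := by
  have key : ∀ W : Submodule k (𝒜 n), ∀ a ∈ Ideal.span ((fun w : 𝒜 n => (w : A)) '' (W : Set (𝒜 n))),
      ∀ r : A, (DirectSum.decompose 𝒜 (r * a) n : 𝒜 n) ∈ W := by
    intro W a ha
    induction ha using Submodule.span_induction with
    | zero => intro r; simp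
    | add a b _ _ ha hb => intro r; rw [mul_add, DirectSum.decompose_add, DirectSum.add_apply]; exact W.add_mem (ha r) (hb r)
    | smul t a _ ha => intro r; rw [smul_eq_mul, ← mul_assoc]; exact ha _
    | mem a ha =>
      obtain ⟨w, hw, rfl⟩ := ha
      intro r
      obtain ⟨c, hc⟩ := h0 _ (SetLike.coe_mem (DirectSum.decompose 𝒜 r 0))
      have : (DirectSum.decompose 𝒜 (r * (w : A)) n : 𝒜 n) = c • w := by
        refine Subtype.ext ?_
        rw [DirectSum.coe_decompose_mul_of_right_mem 𝒜 n w.2, if_pos le_rfl, Nat.sub_self, ← hc,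
          Submodule.coe_smul, Algebra.smul_def]
      rw [this]; exact W.smul_mem c hw
  have hWF : IsNoetherian k (𝒜 n) := by
    rw [isNoetherian_iff']
    refine (show StrictMono (fun W : Submodule k (𝒜 n) => Ideal.span ((fun w : 𝒜 n => (w : A)) '' (W : Set (𝒜 n)))) from
      fun W W' h => lt_of_le_of_ne (Ideal.span_mono (Set.image_mono h.le)) fun he => ?_).wellFoundedGT
    obtain ⟨w, hw, hw'⟩ := SetLike.exists_of_lt h
    apply hw'
    have hmem : (w : A) ∈ Ideal.span ((fun w : 𝒜 n => (w : A)) '' (W : Set (𝒜 n))) := by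
      rw [show Ideal.span ((fun w : 𝒜 n => (w : A)) '' (W : Set (𝒜 n))) = Ideal.span ((fun w : 𝒜 n => (w : A)) '' (W' : Set (𝒜 n))) from he]
      exact Ideal.subset_span ⟨w, hw, rfl⟩
    have := key W _ hmem 1
    rwa [one_mul, DirectSum.decompose_coe, DirectSum.of_eq_same] at this
  exact ⟨IsNoetherian.noetherian ⊤⟩

/-- A connected graded Noetherian algebra is finite over parameters of one degree. -/
theorem finite_of_parameters (h0 : ∀ a ∈ 𝒜 0, ∃ c : k, algebraMap k A c = a) {r D : ℕ} (hD : 0 < D) (x : Fin r → A)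
    (hx : ∀ i, x i ∈ 𝒜 D) (hrad : (HomogeneousIdeal.irrelevant 𝒜).toIdeal ≤ (Ideal.span (Set.range x)).radical) :
    (MvPolynomial.aeval x : MvPolynomial (Fin r) k →ₐ[k] A).toRingHom.Finite := by
  classical
  obtain ⟨N, hN⟩ := Ideal.exists_pow_le_of_le_radical_of_fg hrad (IsNoetherian.noetherian _)
  haveI := SMTLib.finiteType_of_graded 𝒜 h0
  haveI : Algebra.FiniteType (𝒜 0) A := by
    obtain ⟨t, ht⟩ := (inferInstance : Algebra.FiniteType k A)
    refine ⟨⟨t, Algebra.eq_top_iff.2 fun a => ?_⟩⟩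
    have ha : a ∈ Algebra.adjoin k (t : Set A) := ht ▸ Algebra.mem_top
    induction ha using Algebra.adjoin_induction with
    | mem a ha => exact Algebra.subset_adjoin ha
    | algebraMap c =>
      have hc : algebraMap k A c ∈ 𝒜 0 := by
        rw [Algebra.algebraMap_eq_smul_one]
        exact (𝒜 0).smul_mem c SetLike.GradedOne.one_mem
      exact Subalgebra.algebraMap_mem (Algebra.adjoin (𝒜 0) (t : Set A)) ⟨_, hc⟩
    | add a b _ _ ha hb => exact Subalgebra.add_mem _ ha hb
    | mul a b _ _ ha hb => exact Subalgebra.mul_mem _ ha hb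
  obtain ⟨G, hGtop, hG⟩ := GradedAlgebra.exists_finset_adjoin_eq_top_and_homogeneous_ne_zero 𝒜
  choose! deg hdeg0 hdeg using hG
  let E := ∑ g ∈ G, deg g
  -- high degrees lie in the ideal of the parameters
  have hmon : ∀ a : A, ∀ n, N * E < n → (DirectSum.decompose 𝒜 a n : A) ∈ Ideal.span (Set.range x) := by
    intro a
    have ha : a ∈ Algebra.adjoin (𝒜 0) (G : Set A) := hGtop ▸ Algebra.mem_top
    suffices ∀ a ∈ Submonoid.closure (G : Set A), ∃ l m : ℕ, a ∈ (HomogeneousIdeal.irrelevant 𝒜).toIdeal ^ l ∧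
        a ∈ 𝒜 m ∧ m ≤ l * E by
      intro n hn
      rw [← Subalgebra.mem_toSubmodule, Algebra.adjoin_eq_span] at ha
      induction ha using Submodule.span_induction with
      | zero => simp
      | add a b _ _ ha hb => rw [DirectSum.decompose_add, DirectSum.add_apply, Submodule.coe_add]; exact add_mem ha hb
      | smul c a _ ha =>
        rw [Algebra.smul_def, show algebraMap (𝒜 0) A c = (c : A) from rfl,
          DirectSum.coe_decompose_mul_of_left_mem 𝒜 n c.2, if_pos (Nat.zero_le _), Nat.sub_zero]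
        exact Ideal.mul_mem_left _ _ ha
      | mem a ha =>
        obtain ⟨l, m, hl, hm, hlm⟩ := this a ha
        rcases eq_or_ne m n with rfl | hmn
        · rw [DirectSum.decompose_of_mem_same 𝒜 hm]
          exact hN (Ideal.pow_le_pow_right (by
            by_contra hlt
            have : l * E ≤ N * E := Nat.mul_le_mul_right _ (by omega)
            omega) hl)
        · rw [DirectSum.decompose_of_mem_ne 𝒜 hm hmn]; exact zero_mem _
    intro a ha
    induction ha using Submonoid.closure_induction with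
    | one => exact ⟨0, 0, by simp, SetLike.GradedOne.one_mem, by simp⟩
    | mul a b _ _ ha hb =>
      obtain ⟨l, m, hl, hm, hlm⟩ := ha
      obtain ⟨l', m', hl', hm', hlm'⟩ := hb
      exact ⟨l + l', m + m', by rw [pow_add]; exact Ideal.mul_mem_mul hl hl', SetLike.mul_mem_graded hm hm',
        by rw [add_mul]; exact add_le_add hlm hlm'⟩
    | mem a ha =>
      refine ⟨1, deg a, ?_, hdeg a ha, by rw [one_mul]; exact Finset.single_le_sum (fun _ _ => Nat.zero_le _) ha⟩
      rw [pow_one, HomogeneousIdeal.mem_iff, HomogeneousIdeal.mem_irrelevant_iff, GradedRing.proj_apply,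
        DirectSum.decompose_of_mem_ne 𝒜 (hdeg a ha) (hdeg0 a ha)]
  choose b hb using fun i : ℕ => (finite_piece 𝒜 h0 i).fg_top
  let B : Finset A := (Finset.range (N * E + 1)).biUnion fun i => Finset.image (fun w : 𝒜 i => (w : A)) (b i)
  let f := (MvPolynomial.aeval x : MvPolynomial (Fin r) k →ₐ[k] A)
  letI : Algebra (MvPolynomial (Fin r) k) A := f.toRingHom.toAlgebra
  haveI : IsScalarTower k (MvPolynomial (Fin r) k) A := IsScalarTower.of_algebraMap_eq fun c => (f.commutes c).symm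
  let W := Submodule.span (MvPolynomial (Fin r) k) (B : Set A)
  have hW : ∀ n, ∀ a ∈ 𝒜 n, a ∈ W := by
    intro n
    induction n using Nat.strong_induction_on with
    | _ n ih =>
      intro a ha
      rcases le_or_gt n (N * E) with hn | hn
      · have h1 : (⟨a, ha⟩ : 𝒜 n) ∈ Submodule.span k (b n : Set (𝒜 n)) := hb n ▸ Submodule.mem_top
        have h2 := Submodule.apply_mem_span_image_of_mem_span (𝒜 n).subtype h1
        refine Submodule.span_le_restrictScalars k (MvPolynomial (Fin r) k) (B : Set A) (Submodule.span_mono ?_ h2)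
        rintro _ ⟨w, hw, rfl⟩
        exact Finset.mem_biUnion.2 ⟨n, Finset.mem_range.2 (by omega), Finset.mem_image.2 ⟨w, hw, rfl⟩⟩
      · have h1 : a ∈ Ideal.span (Set.range x) := by
          have := hmon a n hn
          rwa [DirectSum.decompose_of_mem_same 𝒜 ha] at this
        obtain ⟨c, hc⟩ := Submodule.mem_span_range_iff_exists_fun A |>.1 h1
        have h3 : a = ∑ i, (DirectSum.decompose 𝒜 (c i * x i) n : A) := by
          conv_lhs => rw [← DirectSum.decompose_of_mem_same 𝒜 ha, ← hc]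
          rw [DirectSum.decompose_sum, DFinsupp.finsetSum_apply, Submodule.coe_sum]
          rfl
        rw [h3]
        refine Submodule.sum_mem _ fun i _ => ?_
        rw [DirectSum.coe_decompose_mul_of_right_mem 𝒜 n (hx i)]
        split_ifs with hDn
        · have h4 := W.smul_mem (MvPolynomial.X i) (ih (n - D) (by omega) _ (SetLike.coe_mem (DirectSum.decompose 𝒜 (c i) (n - D))))
          rwa [Algebra.smul_def, show algebraMap (MvPolynomial (Fin r) k) A (MvPolynomial.X i) = x i from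
            MvPolynomial.aeval_X x i, mul_comm] at h4
        · exact Submodule.zero_mem _
  refine ⟨⟨B, Submodule.eq_top_iff'.2 fun a => ?_⟩⟩
  rw [← DirectSum.sum_support_decompose 𝒜 a]
  exact Submodule.sum_mem _ fun i _ => hW i _ (SetLike.coe_mem _)

/-- A homogeneous Noether normalisation in one degree. -/
theorem exists_normalisation (h0 : ∀ a ∈ 𝒜 0, ∃ c : k, algebraMap k A c = a) {d : ℕ}
    (hd : ringKrullDim A = (d : WithBot ℕ∞)) :
    ∃ D : ℕ, 0 < D ∧ ∀ m : ℕ, 0 < m → ∃ x : Fin d → A, (∀ i, x i ∈ 𝒜 (D * m)) ∧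
      (MvPolynomial.aeval x : MvPolynomial (Fin d) k →ₐ[k] A).toRingHom.Finite ∧
      Function.Injective (MvPolynomial.aeval x : MvPolynomial (Fin d) k →ₐ[k] A) := by
  haveI : Nontrivial A := not_subsingleton_iff_nontrivial.1 fun _ => by
    rw [ringKrullDim_eq_bot_of_subsingleton] at hd; exact WithBot.bot_ne_coe hd
  obtain ⟨l, hlen, hhom, hrad⟩ := exists_parameters 𝒜 h0 d ⊥ (Ideal.IsHomogeneous.bot 𝒜) bot_le
    (by rw [ringKrullDim_eq_of_ringEquiv (RingEquiv.quotientBot A), hd])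
  refine ⟨(l.map Prod.fst).prod, List.prod_pos (by simpa using fun p q hpq => (hhom _ hpq).1), fun m hm => ?_⟩
  set D := (l.map Prod.fst).prod * m
  let e : Fin l.length → ℕ := fun i => D / (l[i]).1
  have hdvd : ∀ i : Fin l.length, (l[i]).1 ∣ D := fun i =>
    Dvd.dvd.mul_right (List.dvd_prod (List.mem_map_of_mem (List.getElem_mem _))) m
  have hD : 0 < D := Nat.mul_pos (List.prod_pos (by simpa using fun p q hpq => (hhom _ hpq).1)) hm
  have hy : ∀ i, (l[i]).2 ^ e i ∈ 𝒜 D := fun i => by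
    have h := SetLike.pow_mem_graded (e i) (hhom _ (List.getElem_mem i.2)).2
    rwa [smul_eq_mul, show e i * (l[(i : ℕ)]).1 = D from Nat.div_mul_cancel (hdvd i)] at h
  have hrad' : (HomogeneousIdeal.irrelevant 𝒜).toIdeal ≤ (Ideal.span (Set.range fun i : Fin l.length => (l[i]).2 ^ e i)).radical := by
    refine hrad.trans (Ideal.radical_le_radical_iff.2 ?_)
    rw [bot_sup_eq, Ideal.ofList, Ideal.span_le]
    intro a ha
    obtain ⟨p, hp, rfl⟩ := List.mem_map.1 ha
    obtain ⟨i, hi, rfl⟩ := List.mem_iff_getElem.1 hp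
    exact ⟨e ⟨i, hi⟩, Ideal.subset_span ⟨⟨i, hi⟩, rfl⟩⟩
  have hfin := finite_of_parameters 𝒜 h0 hD (fun i : Fin l.length => (l[i]).2 ^ e i) hy hrad'
  set f := (MvPolynomial.aeval (fun i : Fin l.length => (l[i]).2 ^ e i) : MvPolynomial (Fin l.length) k →ₐ[k] A)
  have hdimle : ringKrullDim A ≤ ringKrullDim (MvPolynomial (Fin l.length) k ⧸ RingHom.ker f.toRingHom) := by
    letI := (RingHom.kerLift f.toRingHom).toAlgebra
    haveI : Algebra.IsIntegral (MvPolynomial (Fin l.length) k ⧸ RingHom.ker f.toRingHom) A := ⟨fun a => by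
      have h1 : f.toRingHom.IsIntegralElem a := hfin.to_isIntegral a
      obtain ⟨p, hp, hpa⟩ := h1
      refine ⟨p.map (Ideal.Quotient.mk _), hp.map _, ?_⟩
      rw [Polynomial.eval₂_map]
      exact hpa⟩
    refine Order.krullDim_le_of_strictMono (fun P => PrimeSpectrum.comap (algebraMap _ A) P) ?_
    intro P Q hPQ
    exact Ideal.IsIntegral.comap_lt_comap (R := MvPolynomial (Fin l.length) k ⧸ RingHom.ker f.toRingHom) hPQ
  have hpoly : ringKrullDim (MvPolynomial (Fin l.length) k) = (l.length : WithBot ℕ∞) := by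
    rw [MvPolynomial.ringKrullDim_of_isNoetherianRing, ringKrullDim_eq_zero_of_field, zero_add]; simp
  have hleneq : l.length = d := by
    refine le_antisymm hlen ?_
    have h := hdimle.trans (ringKrullDim_le_of_surjective _ Ideal.Quotient.mk_surjective)
    rw [hd, hpoly] at h
    exact_mod_cast h
  have hinj : Function.Injective f := by
    rw [RingHom.injective_iff_ker_eq_bot]
    by_contra hne
    obtain ⟨g, hg, hg0⟩ := Submodule.exists_mem_ne_zero_of_ne_bot hne
    have h := le_trans (add_le_add_left (ringKrullDim_le_of_surjective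
      (Ideal.Quotient.factor (S := Ideal.span {g}) (T := RingHom.ker f.toRingHom)
        ((Ideal.span_singleton_le_iff_mem _).2 hg)) (Ideal.Quotient.factor_surjective _)) 1)
      (ringKrullDim_quotient_succ_le_of_nonZeroDivisor (mem_nonZeroDivisors_of_ne_zero hg0))
    rw [hpoly] at h
    have h2 : ringKrullDim A + 1 ≤ (l.length : WithBot ℕ∞) := le_trans (add_le_add_left hdimle 1) h
    rw [hd, hleneq] at h2
    norm_cast at h2
    omega
  subst hleneq
  exact ⟨_, hy, hfin, hinj⟩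

end NatGrading

section IntGrading

variable {k : Type u} [Field k] {A : Type u} [CommRing A] [Algebra k A] (𝒜 : ℤ → Submodule k A) [GradedAlgebra 𝒜]

/-- Homogeneous normalisation for non-negatively `ℤ`-graded connected algebras. -/
theorem exists_normalisation_int (hpos : ∀ n : ℤ, n < 0 → 𝒜 n = ⊥) (h0 : 𝒜 0 = Submodule.span k {(1 : A)})
    [Algebra.FiniteType k A] {d : ℕ} (hd : ringKrullDim A = (d : WithBot ℕ∞)) :
    ∃ D : ℕ, 0 < D ∧ ∀ m : ℕ, 0 < m → ∃ x : Fin d → A, (∀ i, x i ∈ 𝒜 ((D * m : ℕ) : ℤ)) ∧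
      (MvPolynomial.aeval x : MvPolynomial (Fin d) k →ₐ[k] A).toRingHom.Finite ∧
      Function.Injective (MvPolynomial.aeval x : MvPolynomial (Fin d) k →ₐ[k] A) := by
  classical
  haveI : IsNoetherianRing A := Algebra.FiniteType.isNoetherianRing k A
  let 𝒩 : ℕ → Submodule k A := fun n => 𝒜 n
  haveI : SetLike.GradedMonoid 𝒩 :=
    { one_mem := (SetLike.GradedOne.one_mem : (1 : A) ∈ 𝒜 0)
      mul_mem := fun i j a b ha hb => by
        have := SetLike.mul_mem_graded (A := 𝒜) ha hb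
        show a * b ∈ 𝒜 ((i + j : ℕ) : ℤ)
        rwa [Nat.cast_add] }
  have hint := DirectSum.Decomposition.isInternal 𝒜
  rw [DirectSum.isInternal_submodule_iff_iSupIndep_and_iSup_eq_top] at hint
  have hint' : DirectSum.IsInternal 𝒩 := by
    rw [DirectSum.isInternal_submodule_iff_iSupIndep_and_iSup_eq_top]
    refine ⟨hint.1.comp Nat.cast_injective, le_antisymm le_top ?_⟩
    rw [← hint.2]
    refine iSup_le fun n => ?_
    rcases lt_or_ge n 0 with h | h
    · rw [hpos n h]; exact bot_le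
    · obtain ⟨i, rfl⟩ := Int.eq_ofNat_of_zero_le h
      exact le_iSup 𝒩 i
  letI : DirectSum.Decomposition 𝒩 := hint'.chooseDecomposition
  letI : GradedAlgebra 𝒩 := { }
  exact exists_normalisation 𝒩 (fun a ha => by
    have h' : a ∈ 𝒜 0 := ha
    rw [h0, Submodule.mem_span_singleton] at h'
    obtain ⟨c, rfl⟩ := h'
    exact ⟨c, Algebra.algebraMap_eq_smul_one c⟩) hd

end IntGrading

end SegreLib
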