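import Groth.Agent.SegreLib.Finite
import Groth.Agent.SegreLib.GradedSOP
import Groth.Agent.WeilLib.Dim

/-!
# The dimension of a Segre product
-/

universe u

open scoped TensorProduct
open MvPolynomial

namespace SegreLib

variable {k : Type u} [Field k]

/-- A criterion for algebraicity over a subalgebra. -/
lemma isAlgebraic_of_generators {G : Type u} [CommRing G] [IsDomain G] [Algebra k G] (A : Subalgebra k G)
    (U : Set G) (hU : Algebra.adjoin k U = ⊤) (h : ∀ g ∈ U, ∃ c ∈ A, ∃ b ∈ A, c ≠ 0 ∧ c * g = b) :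
    Algebra.IsAlgebraic A G := by
  refine ⟨fun g => ?_⟩
  have hg : g ∈ Algebra.adjoin k U := hU ▸ Algebra.mem_top
  induction hg using Algebra.adjoin_induction with
  | algebraMap c => exact isAlgebraic_algebraMap (R := A) (A := G) (algebraMap k A c)
  | add a b _ _ ha hb => exact ha.add hb
  | mul a b _ _ ha hb => exact ha.mul hb
  | mem a ha =>
    obtain ⟨c, hc, b, hb, hc0, hcb⟩ := h a ha
    refine ⟨Polynomial.C (⟨c, hc⟩ : A) * Polynomial.X - Polynomial.C (⟨b, hb⟩ : A), fun h0 => hc0 ?_, ?_⟩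
    · have h1 : (⟨c, hc⟩ : A) = 0 := by simpa using congrArg (Polynomial.coeff · 1) h0
      exact congrArg Subtype.val h1
    · simp [Subalgebra.algebraMap_eq, hcb]

section Monomial

variable (r s : ℕ)

/-- The Segre subalgebra of a polynomial ring. -/
noncomputable def segreSub : Subalgebra k (MvPolynomial (Fin r ⊕ Fin s) k) :=
  Algebra.adjoin k (Set.range fun p : Fin r × Fin s => X (Sum.inl p.1) * X (Sum.inr p.2))

/-- A transcendence basis of the Segre subalgebra. -/
noncomputable def segreBasis (r s : ℕ) : Fin (r + 1) ⊕ Fin s → segreSub (k := k) (r + 1) (s + 1)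
  | Sum.inl i => ⟨X (Sum.inl i) * X (Sum.inr 0), Algebra.subset_adjoin ⟨(i, 0), rfl⟩⟩
  | Sum.inr j => ⟨X (Sum.inl 0) * X (Sum.inr j.succ), Algebra.subset_adjoin ⟨(0, j.succ), rfl⟩⟩

lemma segreBasis_algebraicIndependent : AlgebraicIndependent k (segreBasis (k := k) r s) := by
  refine AlgebraicIndependent.of_comp (segreSub (k := k) (r + 1) (s + 1)).val ?_
  -- specialise the first `y` to one
  let ε : MvPolynomial (Fin (r + 1) ⊕ Fin (s + 1)) k →ₐ[k] (MvPolynomial (Fin (r + 1) ⊕ Fin s) k) :=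
    aeval (Sum.elim (fun i => X (Sum.inl i)) (Fin.cons 1 fun j => X (Sum.inr j)))
  refine AlgebraicIndependent.of_comp ε ?_
  let F := FractionRing (MvPolynomial (Fin (r + 1) ⊕ Fin s) k)
  let x₁ : F := algebraMap (MvPolynomial (Fin (r + 1) ⊕ Fin s) k) F (X (Sum.inl 0))
  have hx₁ : x₁ ≠ 0 := (map_ne_zero_iff _ (IsFractionRing.injective (MvPolynomial (Fin (r + 1) ⊕ Fin s) k) F)).2 (X_ne_zero _)
  let κ : (MvPolynomial (Fin (r + 1) ⊕ Fin s) k) →ₐ[k] F :=
    aeval (Sum.elim (fun i => algebraMap (MvPolynomial (Fin (r + 1) ⊕ Fin s) k) F (X (Sum.inl i))) fun j => algebraMap (MvPolynomial (Fin (r + 1) ⊕ Fin s) k) F (X (Sum.inr j)) / x₁)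
  refine AlgebraicIndependent.of_comp κ ?_
  have he : (κ ∘ (ε ∘ ((segreSub (k := k) (r + 1) (s + 1)).val ∘ segreBasis (k := k) r s))) =
      fun v => algebraMap (MvPolynomial (Fin (r + 1) ⊕ Fin s) k) F (X v) := by
    funext v
    rcases v with i | j
    · simp [segreBasis, ε, κ]
    · simp [segreBasis, ε, κ]
      exact mul_div_cancel₀ _ hx₁
  rw [he]
  exact (MvPolynomial.algebraicIndependent_X _ k).map' (f := IsScalarTower.toAlgHom k (MvPolynomial (Fin (r + 1) ⊕ Fin s) k) F) (IsFractionRing.injective (MvPolynomial (Fin (r + 1) ⊕ Fin s) k) F)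

lemma isDomain_segreSub : IsDomain (segreSub (k := k) r s) := inferInstance

theorem ringKrullDim_segreSub :
    ringKrullDim (segreSub (k := k) (r + 1) (s + 1)) = ((r + 1 + s : ℕ) : WithBot ℕ∞) := by
  let G := segreSub (k := k) (r + 1) (s + 1)
  haveI : Algebra.FiniteType k G := (Subalgebra.fg_iff_finiteType _).1 <| by
    rw [Subalgebra.fg_def]
    exact ⟨_, Set.finite_range _, rfl⟩
  haveI : IsDomain G := inferInstance
  obtain ⟨d, hd, htr⟩ := WeilLib.dim_eq_trdeg k G (FractionRing G)
  have hbase := segreBasis_algebraicIndependent (k := k) r s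
  set A := Algebra.adjoin k (Set.range (segreBasis (k := k) r s)) with hA
  have hmem : ∀ v, segreBasis (k := k) r s v ∈ A := fun v => Algebra.subset_adjoin ⟨v, rfl⟩
  let gen : Fin (r + 1) → Fin (s + 1) → G := fun i j => ⟨X (Sum.inl i) * X (Sum.inr j), Algebra.subset_adjoin ⟨(i, j), rfl⟩⟩
  have hi0 : ∀ i, gen i 0 ∈ A := fun i => hmem (Sum.inl i)
  have h0j : ∀ j, gen 0 j ∈ A := Fin.cases (hmem (Sum.inl 0)) fun j => hmem (Sum.inr j)
  have halg : Algebra.IsAlgebraic A G := by
    refine isAlgebraic_of_generators A (Set.range fun q : Fin (r + 1) × Fin (s + 1) => gen q.1 q.2) ?_ ?_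
    · refine Subalgebra.map_injective (f := G.val) Subtype.val_injective ?_
      rw [AlgHom.map_adjoin, ← Set.range_comp, Algebra.map_top, Subalgebra.range_val]
      rfl
    · rintro _ ⟨⟨i, j⟩, rfl⟩
      refine ⟨gen 0 0, hi0 0, gen i 0 * gen 0 j, Subalgebra.mul_mem _ (hi0 i) (h0j j), fun h => ?_, ?_⟩
      · exact mul_ne_zero (X_ne_zero _) (X_ne_zero _) (congrArg Subtype.val h)
      · refine Subtype.ext ?_
        show (X (Sum.inl 0) * X (Sum.inr 0)) * (X (Sum.inl i) * X (Sum.inr j)) = (X (Sum.inl i) * X (Sum.inr 0)) * (X (Sum.inl 0) * X (Sum.inr j))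
        ring
  have hT := hbase.isTranscendenceBasis_iff_isAlgebraic.2 halg
  have h1 := hT.lift_cardinalMk_eq_trdeg
  have h2 : Algebra.trdeg k G = (d : Cardinal) := by
    have : Algebra.IsAlgebraic G (FractionRing G) := IsLocalization.isAlgebraic _ (nonZeroDivisors G)
    rw [← htr, ← trdeg_add_eq k G (A := FractionRing G), trdeg_eq_zero (R := G) (A := FractionRing G), add_zero]
  rw [h2] at h1
  simp only [Cardinal.mk_sum, Cardinal.mk_fintype, Fintype.card_fin, Cardinal.lift_natCast, Cardinal.lift_add] at h1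
  rw [hd]
  have : r + 1 + s = d := by
    simp only [Fintype.card_sum, Fintype.card_fin] at h1
    exact_mod_cast h1
  rw [this]

end Monomial

variable {R S : Type u} [CommRing R] [CommRing S] [Algebra k R] [Algebra k S]
  {T : Type u} [CommRing T] [Algebra k T] {r s : ℕ} (x : Fin r → R) (y : Fin s → S)

/-- The map from the polynomial ring of both sets of parameters. -/
noncomputable def theta : MvPolynomial (Fin r ⊕ Fin s) k →ₐ[k] R ⊗[k] S :=
  aeval (Sum.elim (fun i => x i ⊗ₜ 1) (fun j => 1 ⊗ₜ y j))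

lemma theta_eq :
    theta (k := k) x y = (Algebra.TensorProduct.map (aeval x : MvPolynomial (Fin r) k →ₐ[k] R) (aeval y : MvPolynomial (Fin s) k →ₐ[k] S)).comp
      (MvPolynomial.tensorEquivSum k (Fin r) (Fin s) k).symm.toAlgHom := by
  refine MvPolynomial.algHom_ext fun v => ?_
  rcases v with i | j
  · rw [AlgHom.comp_apply, show (MvPolynomial.tensorEquivSum k (Fin r) (Fin s) k).symm.toAlgHom (X (Sum.inl i)) = X i ⊗ₜ 1 from
      (MvPolynomial.tensorEquivSum k (Fin r) (Fin s) k).symm_apply_eq.2 (tensorEquivSum_X_tmul_one _).symm]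
    simp [theta]
  · rw [AlgHom.comp_apply, show (MvPolynomial.tensorEquivSum k (Fin r) (Fin s) k).symm.toAlgHom (X (Sum.inr j)) = 1 ⊗ₜ X j from
      (MvPolynomial.tensorEquivSum k (Fin r) (Fin s) k).symm_apply_eq.2 (tensorEquivSum_one_tmul_X _).symm]
    simp [theta]

lemma theta_injective (hx : Function.Injective (aeval x : MvPolynomial (Fin r) k →ₐ[k] R))
    (hy : Function.Injective (aeval y : MvPolynomial (Fin s) k →ₐ[k] S)) :
    Function.Injective (theta (k := k) x y) := by
  rw [theta_eq]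
  rw [AlgHom.coe_comp]
  refine Function.Injective.comp ?_ (MvPolynomial.tensorEquivSum k (Fin r) (Fin s) k).symm.injective
  show Function.Injective (TensorProduct.map (aeval x : MvPolynomial (Fin r) k →ₐ[k] R).toLinearMap
    (aeval y : MvPolynomial (Fin s) k →ₐ[k] S).toLinearMap)
  rw [← LinearMap.rTensor_comp_lTensor]
  exact (Module.Flat.rTensor_preserves_injective_linearMap _ hx).comp
    (Module.Flat.lTensor_preserves_injective_linearMap _ hy)

lemma theta_rename_inl (p : MvPolynomial (Fin r) k) :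
    theta (k := k) x y (rename Sum.inl p) = (aeval x p) ⊗ₜ[k] (1 : S) :=
  AlgHom.congr_fun (φ₁ := (theta (k := k) x y).comp (rename Sum.inl))
    (φ₂ := (Algebra.TensorProduct.includeLeft : R →ₐ[k] R ⊗[k] S).comp (aeval x))
    (MvPolynomial.algHom_ext fun i => by simp [theta]) p

lemma theta_rename_inr (p : MvPolynomial (Fin s) k) :
    theta (k := k) x y (rename Sum.inr p) = (1 : R) ⊗ₜ[k] (aeval y p) :=
  AlgHom.congr_fun (φ₁ := (theta (k := k) x y).comp (rename Sum.inr))
    (φ₂ := (Algebra.TensorProduct.includeRight : S →ₐ[k] R ⊗[k] S).comp (aeval y))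
    (MvPolynomial.algHom_ext fun i => by simp [theta]) p

lemma theta_finite (hx : (aeval x : MvPolynomial (Fin r) k →ₐ[k] R).toRingHom.Finite)
    (hy : (aeval y : MvPolynomial (Fin s) k →ₐ[k] S).toRingHom.Finite) :
    (theta (k := k) x y).toRingHom.Finite := by
  classical
  letI := (aeval x : MvPolynomial (Fin r) k →ₐ[k] R).toRingHom.toAlgebra
  letI := (aeval y : MvPolynomial (Fin s) k →ₐ[k] S).toRingHom.toAlgebra
  obtain ⟨U, hU⟩ := (hx : Module.Finite (MvPolynomial (Fin r) k) R).fg_top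
  obtain ⟨V, hV⟩ := (hy : Module.Finite (MvPolynomial (Fin s) k) S).fg_top
  letI := (theta (k := k) x y).toRingHom.toAlgebra
  refine ⟨⟨(U ×ˢ V).image (fun p => p.1 ⊗ₜ[k] p.2), Submodule.eq_top_iff'.2 fun z => ?_⟩⟩
  induction z using TensorProduct.induction_on with
  | zero => exact Submodule.zero_mem _
  | add a b ha hb => exact Submodule.add_mem _ ha hb
  | tmul m n =>
    have hm : m ∈ Submodule.span (MvPolynomial (Fin r) k) (U : Set R) := hU ▸ trivial
    have hn : n ∈ Submodule.span (MvPolynomial (Fin s) k) (V : Set S) := hV ▸ trivial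
    induction hm using Submodule.span_induction with
    | zero => rw [TensorProduct.zero_tmul]; exact Submodule.zero_mem _
    | add a b _ _ ha hb => rw [TensorProduct.add_tmul]; exact Submodule.add_mem _ ha hb
    | smul p a _ ha =>
      have e : (p • a) ⊗ₜ[k] n = (rename Sum.inl p : MvPolynomial (Fin r ⊕ Fin s) k) • (a ⊗ₜ[k] n) := by
        show (aeval x p * a) ⊗ₜ[k] n = theta (k := k) x y (rename Sum.inl p) * (a ⊗ₜ[k] n)
        rw [theta_rename_inl, Algebra.TensorProduct.tmul_mul_tmul, one_mul]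
      rw [e]; exact Submodule.smul_mem _ _ ha
    | mem a ha =>
      induction hn using Submodule.span_induction with
      | zero => rw [TensorProduct.tmul_zero]; exact Submodule.zero_mem _
      | add c d _ _ hc hd => rw [TensorProduct.tmul_add]; exact Submodule.add_mem _ hc hd
      | smul p c _ hc =>
        have e : a ⊗ₜ[k] (p • c) = (rename Sum.inr p : MvPolynomial (Fin r ⊕ Fin s) k) • (a ⊗ₜ[k] c) := by
          show a ⊗ₜ[k] (aeval y p * c) = theta (k := k) x y (rename Sum.inr p) * (a ⊗ₜ[k] c)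
          rw [theta_rename_inr, Algebra.TensorProduct.tmul_mul_tmul, one_mul]
        rw [e]; exact Submodule.smul_mem _ _ hc
      | mem c hc => exact Submodule.subset_span (Finset.mem_image.2 ⟨(a, c), Finset.mem_product.2 ⟨ha, hc⟩, rfl⟩)

variable (𝒜 : ℤ → Submodule k R) [GradedAlgebra 𝒜] (ℬ : ℤ → Submodule k S) [GradedAlgebra ℬ]

lemma pow_span_le {D : ℤ} {ι : Type} {A : Type u} [CommRing A] [Algebra k A] (ℱ : ℤ → Submodule k A) [GradedAlgebra ℱ]
    (z : ι → A) (hz : ∀ i, z i ∈ ℱ D) : ∀ n : ℕ, Submodule.span k (Set.range z) ^ n ≤ ℱ ((n : ℤ) * D) := by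
  intro n
  induction n with
  | zero =>
    rw [pow_zero, Submodule.one_le, Nat.cast_zero, zero_mul]
    exact SetLike.GradedOne.one_mem
  | succ n ih =>
    rw [pow_succ, Submodule.mul_le]
    intro a ha b hb
    have hb' : b ∈ ℱ D := Submodule.span_le.2 (by rintro _ ⟨i, rfl⟩; exact hz i) hb
    have := SetLike.mul_mem_graded (ih ha) hb'
    rwa [Nat.cast_succ, add_mul, one_mul]

/-- The projection of the parameter ring lands in the algebra of the products of parameters. -/
lemma diagRing_theta_mem {D : ℤ} (hD : 0 < D) (hx : ∀ i, x i ∈ 𝒜 D) (hy : ∀ j, y j ∈ ℬ D)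
    (p : MvPolynomial (Fin r ⊕ Fin s) k) :
    diagRing 𝒜 ℬ (theta (k := k) x y p) ∈
      Algebra.adjoin k (Set.range fun q : Fin r × Fin s => x q.1 ⊗ₜ[k] y q.2) := by
  set B := Algebra.adjoin k (Set.range fun q : Fin r × Fin s => x q.1 ⊗ₜ[k] y q.2)
  set Wx := Submodule.span k (Set.range x)
  set Wy := Submodule.span k (Set.range y)
  have hB : ∀ (n : ℕ), ∀ a ∈ Wx ^ n, ∀ b ∈ Wy ^ n, a ⊗ₜ[k] b ∈ B := by
    intro n
    induction n with
    | zero =>
      intro a ha b hb
      rw [pow_zero, Submodule.mem_one] at ha hb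
      obtain ⟨c, rfl⟩ := ha
      obtain ⟨c', rfl⟩ := hb
      rw [Algebra.algebraMap_eq_smul_one, Algebra.algebraMap_eq_smul_one, TensorProduct.tmul_smul, ← TensorProduct.smul_tmul',
        ← Algebra.TensorProduct.one_def]
      exact B.smul_mem (B.smul_mem B.one_mem _) _
    | succ n ih =>
      intro a ha b hb
      rw [pow_succ] at ha hb
      induction ha using Submodule.mul_induction_on' with
      | add a _ a' _ h1 h2 => rw [TensorProduct.add_tmul]; exact B.add_mem h1 h2
      | mem_mul_mem a ha a' ha' =>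
        induction hb using Submodule.mul_induction_on' with
        | add b _ b' _ h1 h2 => rw [TensorProduct.tmul_add]; exact B.add_mem h1 h2
        | mem_mul_mem b hb b' hb' =>
          rw [← Algebra.TensorProduct.tmul_mul_tmul]
          refine B.mul_mem (ih a ha b hb) ?_
          clear hb ha
          induction ha' using Submodule.span_induction with
          | zero => rw [TensorProduct.zero_tmul]; exact B.zero_mem
          | add u v _ _ hu hv => rw [TensorProduct.add_tmul]; exact B.add_mem hu hv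
          | smul c u _ hu => rw [← TensorProduct.smul_tmul']; exact B.smul_mem hu _
          | mem u hu =>
            induction hb' using Submodule.span_induction with
            | zero => rw [TensorProduct.tmul_zero]; exact B.zero_mem
            | add u v _ _ hu hv => rw [TensorProduct.tmul_add]; exact B.add_mem hu hv
            | smul c u _ hu => rw [TensorProduct.tmul_smul]; exact B.smul_mem hu _
            | mem v hv =>
              obtain ⟨i, rfl⟩ := hu
              obtain ⟨j, rfl⟩ := hv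
              exact Algebra.subset_adjoin ⟨(i, j), rfl⟩
  suffices ∀ (n m : ℕ) (a : R) (b : S), a ∈ Wx ^ n → b ∈ Wy ^ m → diagRing 𝒜 ℬ (theta (k := k) x y p * (a ⊗ₜ[k] b)) ∈ B by
    have h := this 0 0 1 1 (by rw [pow_zero]; exact Submodule.one_le.1 le_rfl) (by rw [pow_zero]; exact Submodule.one_le.1 le_rfl)
    rwa [← Algebra.TensorProduct.one_def, mul_one] at h
  induction p using MvPolynomial.induction_on with
  | C c =>
    intro n m a b ha hb
    rw [theta, aeval_C, ← Algebra.smul_def, map_smul]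
    refine B.smul_mem ?_ c
    rw [diagRing, diag_tmul 𝒜 ℬ _ _ (pow_span_le 𝒜 x hx n ha) (pow_span_le ℬ y hy m hb)]
    split_ifs with h
    · obtain rfl : n = m := by exact_mod_cast mul_right_cancel₀ hD.ne' h
      exact hB n a ha b hb
    · exact B.zero_mem
  | add p q hp hq =>
    intro n m a b ha hb
    rw [map_add, add_mul, map_add]
    exact B.add_mem (hp n m a b ha hb) (hq n m a b ha hb)
  | mul_X p v hp =>
    intro n m a b ha hb
    rw [map_mul (theta (k := k) x y), mul_assoc]
    rcases v with i | j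
    · rw [show theta (k := k) x y (X (Sum.inl i)) = x i ⊗ₜ[k] (1 : S) by simp [theta], Algebra.TensorProduct.tmul_mul_tmul, one_mul, mul_comm (x i) a]
      exact hp (n + 1) m _ b (by rw [pow_succ]; exact Submodule.mul_mem_mul ha (Submodule.subset_span ⟨i, rfl⟩)) hb
    · rw [show theta (k := k) x y (X (Sum.inr j)) = (1 : R) ⊗ₜ[k] y j by simp [theta], Algebra.TensorProduct.tmul_mul_tmul, one_mul, mul_comm (y j) b]
      exact hp n (m + 1) a _ ha (by rw [pow_succ]; exact Submodule.mul_mem_mul hb (Submodule.subset_span ⟨j, rfl⟩))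

/-- The dimension of a Segre product. -/
theorem ringKrullDim_segre {r s : ℕ} (x : Fin (r + 1) → R) (y : Fin (s + 1) → S) {D : ℤ} (hD : 0 < D)
    (hx : ∀ i, x i ∈ 𝒜 D) (hy : ∀ j, y j ∈ ℬ D)
    (hfx : (aeval x : MvPolynomial (Fin (r + 1)) k →ₐ[k] R).toRingHom.Finite)
    (hfy : (aeval y : MvPolynomial (Fin (s + 1)) k →ₐ[k] S).toRingHom.Finite)
    (hix : Function.Injective (aeval x : MvPolynomial (Fin (r + 1)) k →ₐ[k] R))
    (hiy : Function.Injective (aeval y : MvPolynomial (Fin (s + 1)) k →ₐ[k] S))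
    (ψ : T →ₐ[k] R ⊗[k] S) (hψ : Function.Injective ψ)
    (hr : LinearMap.range ψ.toLinearMap = diagPart (k := k) 𝒜 ℬ) :
    ringKrullDim T = ((r + 1 + s : ℕ) : WithBot ℕ∞) := by
  classical
  let P := MvPolynomial (Fin (r + 1) ⊕ Fin (s + 1)) k
  let θ := theta (k := k) x y
  have hθ : Function.Injective θ := theta_injective x y hix hiy
  -- lift the products of parameters to `T`
  have hz : ∀ q : Fin (r + 1) × Fin (s + 1), ∃ t : T, ψ t = x q.1 ⊗ₜ[k] y q.2 := fun q =>
    show x q.1 ⊗ₜ[k] y q.2 ∈ LinearMap.range ψ.toLinearMap from hr ▸ tmul_mem_diagPart 𝒜 ℬ (hx q.1) (hy q.2)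
  choose t ht using hz
  let B := Algebra.adjoin k (Set.range t)
  have hBmap : B.map ψ = Algebra.adjoin k (Set.range fun q : Fin (r + 1) × Fin (s + 1) => x q.1 ⊗ₜ[k] y q.2) := by
    rw [AlgHom.map_adjoin, ← Set.range_comp]
    exact congrArg _ (congrArg Set.range (funext ht))
  have hGmap : (segreSub (k := k) (r + 1) (s + 1)).map θ = B.map ψ := by
    rw [hBmap, segreSub, AlgHom.map_adjoin, ← Set.range_comp]
    refine congrArg _ (congrArg Set.range (funext fun q => ?_))
    simp [θ, theta]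
  have hdimB : ringKrullDim B = ((r + 1 + s : ℕ) : WithBot ℕ∞) := by
    rw [← ringKrullDim_segreSub (k := k) r s]
    exact ringKrullDim_eq_of_ringEquiv (((Subalgebra.equivMapOfInjective B ψ hψ).trans
      ((Subalgebra.equivOfEq _ _ hGmap.symm).trans (Subalgebra.equivMapOfInjective _ θ hθ).symm)).toRingEquiv)
  -- finiteness over `B`
  haveI : Module.Finite B T := by
    letI := θ.toRingHom.toAlgebra
    haveI : Module.Finite P (R ⊗[k] S) := theta_finite x y hfx hfy
    haveI : IsNoetherian P (R ⊗[k] S) := isNoetherian_of_isNoetherianRing_of_finite _ _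
    obtain ⟨t₀, ht₀, he⟩ := Submodule.fg_span_iff_fg_span_finset_subset (Set.range ψ) |>.1
      (IsNoetherian.noetherian (Submodule.span P (Set.range ψ)))
    obtain ⟨u, -, rfl⟩ := Finset.subset_set_image_iff.1 (show (t₀ : Set (R ⊗[k] S)) ⊆ ψ '' Set.univ by rwa [Set.image_univ])
    refine ⟨⟨u, Submodule.eq_top_iff'.2 fun a => ?_⟩⟩
    have hspan : ψ a ∈ Submodule.span P ((u.image ψ : Finset (R ⊗[k] S)) : Set (R ⊗[k] S)) :=
      he ▸ Submodule.subset_span ⟨a, rfl⟩
    obtain ⟨f, hf⟩ := Submodule.mem_span_finset'.1 hspan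
    have key : ∀ z : (u.image ψ : Finset (R ⊗[k] S)), ∃ w ∈ Submodule.span B (u : Set T),
        ψ w = diagRing 𝒜 ℬ (f z • (z : R ⊗[k] S)) := by
      rintro ⟨z, hz⟩
      obtain ⟨w, hw, rfl⟩ := Finset.mem_image.1 hz
      have hb : diagRing 𝒜 ℬ (θ (f ⟨ψ w, hz⟩)) ∈ B.map ψ := hBmap ▸ diagRing_theta_mem x y 𝒜 ℬ hD hx hy _
      obtain ⟨b, hb, hbe⟩ := hb
      refine ⟨(⟨b, hb⟩ : B) • w, Submodule.smul_mem _ _ (Submodule.subset_span hw), ?_⟩
      show ψ (b * w) = diagRing 𝒜 ℬ (θ (f ⟨ψ w, hz⟩) * ψ w)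
      rw [diagRing_mul_of_mem 𝒜 ℬ _ (hr ▸ LinearMap.mem_range_self ψ.toLinearMap w), map_mul]
      exact congrArg (· * ψ w) hbe
    choose g hg hge using key
    have ha' : a = ∑ z, g z := hψ (by
      rw [map_sum, Finset.sum_congr rfl fun z _ => hge z, ← map_sum, hf]
      exact (diag_of_mem _ _ _ _ (hr ▸ LinearMap.mem_range_self ψ.toLinearMap a)).symm)
    rw [ha']
    exact Submodule.sum_mem _ fun z _ => hg z
  rw [WeilLib.ringKrullDim_eq_of_integral B T Subtype.val_injective, hdimB]

end SegreLib
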