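import Groth.Agent.SegreLib.Basic
import Mathlib

/-!
# Finiteness of Segre products
-/

universe u

open scoped TensorProduct

namespace SegreLib

variable {k : Type u} [Field k] {R S : Type u} [CommRing R] [CommRing S] [Algebra k R] [Algebra k S]
  (𝒜 : ℤ → Submodule k R) [GradedAlgebra 𝒜] (ℬ : ℤ → Submodule k S) [GradedAlgebra ℬ]

lemma isNoetherianRing_tensor [Algebra.FiniteType k R] [Algebra.FiniteType k S] :
    IsNoetherianRing (R ⊗[k] S) := by
  have : IsNoetherianRing R := Algebra.FiniteType.isNoetherianRing k R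
  exact Algebra.FiniteType.isNoetherianRing R (R ⊗[k] S)

variable {T : Type u} [CommRing T] [Algebra k T] (ψ : T →ₐ[k] R ⊗[k] S)

/-- A module presenting a Segre product of finite modules is Noetherian. -/
theorem isNoetherian_segre [Algebra.FiniteType k R] [Algebra.FiniteType k S]
    (hψ : LinearMap.range ψ.toLinearMap = diagPart (k := k) 𝒜 ℬ)
    {M N P : Type u} [AddCommGroup M] [Module R M] [Module k M] [IsScalarTower k R M] [Module.Finite R M]
    [AddCommGroup N] [Module S N] [Module k N] [IsScalarTower k S N] [Module.Finite S N]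
    [AddCommGroup P] [Module T P] [Module k P]
    {τ τ' : Type u} [SetLike τ M] [AddSubgroupClass τ M] [SetLike τ' N] [AddSubgroupClass τ' N]
    (ℳ : ℤ → τ) [DirectSum.Decomposition ℳ] [SetLike.GradedSMul 𝒜 ℳ]
    (𝒩 : ℤ → τ') [DirectSum.Decomposition 𝒩] [SetLike.GradedSMul ℬ 𝒩]
    (φ : P →ₗ[k] M ⊗[k] N) (hinj : Function.Injective φ)
    (hφ : LinearMap.range φ = diagPart (k := k) ℳ 𝒩)
    (hsmul : ∀ (t : T) (p : P), φ (t • p) = GrSeg.act k R S M N (ψ t) (φ p)) : IsNoetherian T P := by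
  classical
  letI := tensorModule (k := k) R S M N
  haveI := isNoetherianRing_tensor (k := k) (R := R) (S := S)
  haveI := tensorModule_finite (k := k) R S M N
  haveI : IsNoetherian (R ⊗[k] S) (M ⊗[k] N) := isNoetherian_of_isNoetherianRing_of_finite _ _
  refine ⟨fun Q => ?_⟩
  obtain ⟨t, htQ, hspan⟩ : ∃ t : Finset P, (t : Set P) ⊆ Q ∧ ∀ q ∈ Q, φ q ∈ Submodule.span (R ⊗[k] S) (φ '' (t : Set P)) := by
    obtain ⟨t₀, ht₀, he⟩ := Submodule.fg_span_iff_fg_span_finset_subset (φ '' (Q : Set P)) |>.1 (IsNoetherian.noetherian (Submodule.span (R ⊗[k] S) (φ '' (Q : Set P))))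
    obtain ⟨t, ht, rfl⟩ := Finset.subset_set_image_iff.1 ht₀
    refine ⟨t, ht, fun q hq => ?_⟩
    rw [← Finset.coe_image, ← he]
    exact Submodule.subset_span ⟨q, hq, rfl⟩
  refine ⟨t, le_antisymm (Submodule.span_le.2 htQ) fun q hq => ?_⟩
  have hd : ∀ p : P, φ p ∈ diagPart (k := k) ℳ 𝒩 := fun p => hφ ▸ LinearMap.mem_range_self φ p
  obtain ⟨f, hf⟩ := Submodule.mem_span_finset'.1 (by rw [Finset.coe_image]; exact hspan q hq :
    φ q ∈ Submodule.span (R ⊗[k] S) ((t.image φ : Finset (M ⊗[k] N)) : Set (M ⊗[k] N)))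
  have key : ∀ x : (t.image φ : Finset (M ⊗[k] N)), ∃ p ∈ Submodule.span T (t : Set P),
      φ p = diagMod 𝒜 ℬ ℳ 𝒩 (f x • (x : M ⊗[k] N)) := by
    rintro ⟨x, hx⟩
    obtain ⟨p, hp, rfl⟩ := Finset.mem_image.1 hx
    obtain ⟨a, ha⟩ : diagRing 𝒜 ℬ (f ⟨φ p, hx⟩) ∈ LinearMap.range ψ.toLinearMap := hψ ▸ diag_mem _ _ _ _ _
    refine ⟨a • p, Submodule.smul_mem _ _ (Submodule.subset_span hp), ?_⟩
    rw [hsmul, show ψ a = _ from ha, ← diag_act_of_mem_right 𝒜 ℬ ℳ 𝒩 (f ⟨φ p, hx⟩) (hd p)]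
    rfl
  choose g hg hge using key
  have hq' : q = ∑ x, g x := hinj (by
    rw [map_sum, Finset.sum_congr rfl fun x _ => hge x, ← map_sum, hf]
    exact (diag_of_mem _ _ _ _ (hd q)).symm)
  rw [hq']
  exact Submodule.sum_mem _ fun x _ => hg x

end SegreLib
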