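import Groth.Agent.SegreLib.Finite

/-!
# Standard graded rings and the generators of shifted Segre products
-/

universe u

open scoped TensorProduct

namespace SegreLib

variable {k : Type u} [Field k] {R : Type u} [CommRing R] [Algebra k R]
  (𝒜 : ℤ → Submodule k R) [GradedAlgebra 𝒜]

/-- In a standard graded ring a piece of positive degree is spanned by products with linear forms. -/
lemma mem_span_linear (hstd : Ideal.span (⋃ n ∈ Set.Ioi (0 : ℤ), (𝒜 n : Set R)) = Ideal.span ((𝒜 1 : Submodule k R) : Set R))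
    {m : ℤ} (hm : 0 < m) {a : R} (ha : a ∈ 𝒜 m) :
    a ∈ Submodule.span k {x : R | ∃ u ∈ 𝒜 1, ∃ v ∈ 𝒜 (m - 1), x = u * v} := by
  have h1 : a ∈ Ideal.span ((𝒜 1 : Submodule k R) : Set R) := by
    rw [← hstd]
    exact Ideal.subset_span (Set.mem_iUnion₂.2 ⟨m, hm, ha⟩)
  let W := Submodule.span k {x : R | ∃ u ∈ 𝒜 1, ∃ v ∈ 𝒜 (m - 1), x = u * v}
  let P := proj 𝒜 (fun c n _ h => (𝒜 n).smul_mem c h) m
  show a ∈ W
  have key : ∀ y ∈ Ideal.span ((𝒜 1 : Submodule k R) : Set R), ∀ r : R, P (r * y) ∈ W := by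
    intro y hy
    induction hy using Submodule.span_induction with
    | zero => intro r; simp
    | add y z _ _ hy hz => intro r; rw [mul_add, map_add]; exact Submodule.add_mem _ (hy r) (hz r)
    | smul s y _ hy => intro r; rw [smul_eq_mul, ← mul_assoc]; exact hy _
    | mem y hy =>
      intro r
      induction r using DirectSum.Decomposition.inductionOn 𝒜 with
      | zero => simp
      | add r r' hr hr' => rw [add_mul, map_add]; exact Submodule.add_mem _ hr hr'
      | @homogeneous i r =>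
        show proj 𝒜 _ m ((r : R) * y) ∈ W
        rw [proj_of_mem 𝒜 _ (SetLike.mul_mem_graded r.2 hy)]
        split_ifs with h
        · exact Submodule.subset_span ⟨y, hy, r, (show i = m - 1 by omega) ▸ r.2, mul_comm _ _⟩
        · exact Submodule.zero_mem _
  have := key a h1 1
  rwa [one_mul, show P a = a from (proj_of_mem 𝒜 _ ha m).trans (if_pos rfl)] at this

lemma exists_functional_one (h0 : 𝒜 0 = Submodule.span k {(1 : R)}) [Nontrivial R] :
    ∃ ε : R →ₗ[k] k, ε 1 = 1 ∧ ∀ (i : ℤ) (a : R), a ∈ 𝒜 i → (i ≠ 0 → ε a = 0) ∧ (i = 0 → a = ε a • 1) := by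
  obtain ⟨f, hf⟩ := Module.Projective.exists_dual_ne_zero k (one_ne_zero : (1 : R) ≠ 0)
  refine ⟨(((f 1)⁻¹ • f)).comp (proj 𝒜 (fun c n _ h => (𝒜 n).smul_mem c h) 0), ?_, fun i a ha => ⟨fun hi => ?_, ?_⟩⟩
  · simp [proj_of_mem 𝒜 _ SetLike.GradedOne.one_mem, hf]
  · simp [proj_of_mem 𝒜 _ ha, hi]
  · rintro rfl
    rw [h0, Submodule.mem_span_singleton] at ha
    obtain ⟨c, rfl⟩ := ha
    simp [proj_of_mem 𝒜 _ SetLike.GradedOne.one_mem, hf]

end SegreLib
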