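import Groth.Prelude.Def_GrSeg
import Mathlib.RingTheory.FiniteType
import Mathlib.RingTheory.Noetherian.Basic
import Mathlib.RingTheory.GradedAlgebra.Basic
import Mathlib.Algebra.GradedMulAction

/-!
# Segre products: the projection to the diagonal
-/

universe u

open scoped TensorProduct DirectSum

namespace SegreLib

variable {k : Type u} [CommRing k]

section Proj

variable {M : Type u} [AddCommGroup M] [Module k M] {τ : Type u} [SetLike τ M] [AddSubgroupClass τ M]
  (ℳ : ℤ → τ) [DirectSum.Decomposition ℳ]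

/-- The component of degree `n`, as a linear map. -/
noncomputable def proj (h : ∀ (c : k) (n : ℤ) (m : M), m ∈ ℳ n → c • m ∈ ℳ n) (n : ℤ) : M →ₗ[k] M where
  toFun m := (DirectSum.decompose ℳ m n : M)
  map_add' a b := by simp
  map_smul' c m := by
    induction m using DirectSum.Decomposition.inductionOn ℳ with
    | zero => simp
    | @homogeneous i x =>
      rcases eq_or_ne i n with rfl | hin
      · rw [DirectSum.decompose_of_mem_same ℳ (h c i x x.2), DirectSum.decompose_of_mem_same ℳ x.2]; rfl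
      · rw [DirectSum.decompose_of_mem_ne ℳ (h c i x x.2) hin, DirectSum.decompose_of_mem_ne ℳ x.2 hin, smul_zero]
    | add a b ha hb =>
      simp only [RingHom.id_apply] at ha hb ⊢
      rw [smul_add, DirectSum.decompose_add, DirectSum.add_apply, AddMemClass.coe_add, ha, hb,
        DirectSum.decompose_add, DirectSum.add_apply, AddMemClass.coe_add, smul_add]

lemma proj_mem (h : ∀ (c : k) (n : ℤ) (m : M), m ∈ ℳ n → c • m ∈ ℳ n) (n : ℤ) (m : M) :
    proj ℳ h n m ∈ ℳ n := SetLike.coe_mem _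

lemma proj_of_mem (h : ∀ (c : k) (n : ℤ) (m : M), m ∈ ℳ n → c • m ∈ ℳ n) {i : ℤ} {m : M} (hm : m ∈ ℳ i) (n : ℤ) :
    proj ℳ h n m = if i = n then m else 0 := by
  split_ifs with hin
  · subst hin; exact DirectSum.decompose_of_mem_same ℳ hm
  · exact DirectSum.decompose_of_mem_ne ℳ hm hin

variable {N : Type u} [AddCommGroup N] [Module k N] {τ' : Type u} [SetLike τ' N] [AddSubgroupClass τ' N]
  (𝒩 : ℤ → τ') [DirectSum.Decomposition 𝒩]

/-- `m ↦ (y ↦ ∑ n, mₙ ⊗ yₙ)`, additively. -/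
noncomputable def diagBilinAux (h' : ∀ (c : k) (n : ℤ) (y : N), y ∈ 𝒩 n → c • y ∈ 𝒩 n) :
    M →+ (N →ₗ[k] M ⊗[k] N) :=
  (DirectSum.toAddMonoid fun n : ℤ =>
    (AddMonoidHom.mk' (fun a : ℳ n => (TensorProduct.mk k M N (a : M)).comp (proj 𝒩 h' n))
      (fun a b => by rw [AddMemClass.coe_add, map_add, LinearMap.add_comp]))).comp
    (DirectSum.decomposeAddEquiv ℳ).toAddMonoidHom

lemma diagBilinAux_of_mem (h' : ∀ (c : k) (n : ℤ) (y : N), y ∈ 𝒩 n → c • y ∈ 𝒩 n) {i : ℤ} {a : M}
    (ha : a ∈ ℳ i) : diagBilinAux ℳ 𝒩 h' a = (TensorProduct.mk k M N a).comp (proj 𝒩 h' i) := by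
  simp [diagBilinAux, DirectSum.decompose_of_mem ℳ ha]

/-- The projection of `M ⊗ N` onto its diagonal part. -/
noncomputable def diag (h : ∀ (c : k) (n : ℤ) (m : M), m ∈ ℳ n → c • m ∈ ℳ n)
    (h' : ∀ (c : k) (n : ℤ) (y : N), y ∈ 𝒩 n → c • y ∈ 𝒩 n) : M ⊗[k] N →ₗ[k] M ⊗[k] N :=
  TensorProduct.lift
    { toFun := diagBilinAux ℳ 𝒩 h'
      map_add' := map_add _
      map_smul' := fun c m => by
        induction m using DirectSum.Decomposition.inductionOn ℳ with
        | zero => simp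
        | @homogeneous i x =>
          rw [diagBilinAux_of_mem ℳ 𝒩 h' (h c i x x.2), diagBilinAux_of_mem ℳ 𝒩 h' x.2]
          simp [LinearMap.smul_comp]
        | add a b ha hb =>
          simp only [RingHom.id_apply] at ha hb ⊢
          rw [smul_add, map_add, map_add, smul_add, ha, hb] }

variable (h : ∀ (c : k) (n : ℤ) (m : M), m ∈ ℳ n → c • m ∈ ℳ n)
  (h' : ∀ (c : k) (n : ℤ) (y : N), y ∈ 𝒩 n → c • y ∈ 𝒩 n)

lemma diag_tmul {i j : ℤ} {a : M} {b : N} (ha : a ∈ ℳ i) (hb : b ∈ 𝒩 j) :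
    diag ℳ 𝒩 h h' (a ⊗ₜ b) = if i = j then a ⊗ₜ b else 0 := by
  simp only [diag, TensorProduct.lift.tmul, LinearMap.coe_mk, AddHom.coe_mk]
  rw [diagBilinAux_of_mem ℳ 𝒩 h' ha]
  simp [proj_of_mem 𝒩 h' hb, eq_comm (a := j)]
  split_ifs <;> simp

omit [DirectSum.Decomposition ℳ] [DirectSum.Decomposition 𝒩] in
/-- Induction over tensors of homogeneous elements. -/
lemma homogeneous_induction [DirectSum.Decomposition ℳ] [DirectSum.Decomposition 𝒩] {C : M ⊗[k] N → Prop} (h0 : C 0)
    (hadd : ∀ x y, C x → C y → C (x + y))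
    (ht : ∀ (i j : ℤ) (a : M) (b : N), a ∈ ℳ i → b ∈ 𝒩 j → C (a ⊗ₜ b)) (x : M ⊗[k] N) : C x := by
  induction x using TensorProduct.induction_on with
  | zero => exact h0
  | add x y hx hy => exact hadd x y hx hy
  | tmul a b =>
    induction a using DirectSum.Decomposition.inductionOn ℳ with
    | zero => rw [TensorProduct.zero_tmul]; exact h0
    | add a a' ha ha' => rw [TensorProduct.add_tmul]; exact hadd _ _ ha ha'
    | @homogeneous i a =>
      induction b using DirectSum.Decomposition.inductionOn 𝒩 with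
      | zero => rw [TensorProduct.tmul_zero]; exact h0
      | add b b' hb hb' => rw [TensorProduct.tmul_add]; exact hadd _ _ hb hb'
      | @homogeneous j b => exact ht i j a b a.2 b.2

/-- The diagonal part. -/
def diagPart : Submodule k (M ⊗[k] N) := ⨆ n : ℤ, GrSeg.segrePiece k ℳ 𝒩 n

omit [DirectSum.Decomposition ℳ] [DirectSum.Decomposition 𝒩] [AddSubgroupClass τ M] [AddSubgroupClass τ' N] in
lemma diagPart_induction {C : M ⊗[k] N → Prop} (h0 : C 0) (hadd : ∀ x y, C x → C y → C (x + y))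
    (hsmul : ∀ (c : k) x, C x → C (c • x))
    (ht : ∀ (n : ℤ) (a : M) (b : N), a ∈ ℳ n → b ∈ 𝒩 n → C (a ⊗ₜ b)) {x : M ⊗[k] N}
    (hx : x ∈ diagPart ℳ 𝒩) : C x := by
  induction hx using Submodule.iSup_induction' with
  | zero => exact h0
  | add x y _ _ hx hy => exact hadd x y hx hy
  | mem n x hx =>
    induction hx using Submodule.span_induction with
    | mem x hx => obtain ⟨a, ha, b, hb, rfl⟩ := hx; exact ht n a b ha hb
    | zero => exact h0
    | add x y _ _ hx hy => exact hadd x y hx hy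
    | smul c x _ hx => exact hsmul c x hx

lemma tmul_mem_diagPart {n : ℤ} {a : M} {b : N} (ha : a ∈ ℳ n) (hb : b ∈ 𝒩 n) :
    a ⊗ₜ[k] b ∈ diagPart (k := k) ℳ 𝒩 :=
  le_iSup (fun n : ℤ => GrSeg.segrePiece k ℳ 𝒩 n) n (Submodule.subset_span ⟨a, ha, b, hb, rfl⟩)

lemma diag_mem (x : M ⊗[k] N) : diag ℳ 𝒩 h h' x ∈ diagPart (k := k) ℳ 𝒩 := by
  induction x using homogeneous_induction ℳ 𝒩 with
  | h0 => simp
  | hadd x y hx hy => rw [map_add]; exact Submodule.add_mem _ hx hy
  | ht i j a b ha hb =>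
    rw [diag_tmul ℳ 𝒩 h h' ha hb]
    split_ifs with hij
    · subst hij; exact tmul_mem_diagPart ℳ 𝒩 ha hb
    · exact Submodule.zero_mem _

lemma diag_of_mem {x : M ⊗[k] N} (hx : x ∈ diagPart (k := k) ℳ 𝒩) : diag ℳ 𝒩 h h' x = x := by
  refine diagPart_induction ℳ 𝒩 (C := fun x => diag ℳ 𝒩 h h' x = x) (map_zero _)
    (fun x y hx hy => by rw [map_add, hx, hy]) (fun c x hx => by rw [map_smul, hx])
    (fun n a b ha hb => by rw [diag_tmul ℳ 𝒩 h h' ha hb, if_pos rfl]) hx

omit [DirectSum.Decomposition ℳ] [DirectSum.Decomposition 𝒩] [AddSubgroupClass τ M] [AddSubgroupClass τ' N] in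
/-- The range of the presenting map of a Segre product is the diagonal part. -/
lemma range_eq_diagPart {P : Type u} [AddCommGroup P] [Module k P] {τQ : Type u} [SetLike τQ P]
    [AddSubgroupClass τQ P] (𝒬 : ℤ → τQ) [DirectSum.Decomposition 𝒬] (φ : P →ₗ[k] M ⊗[k] N)
    (himg : ∀ n : ℤ, φ '' (𝒬 n : Set P) = (GrSeg.segrePiece k ℳ 𝒩 n : Set (M ⊗[k] N))) :
    LinearMap.range φ = diagPart (k := k) ℳ 𝒩 := by
  refine le_antisymm ?_ (iSup_le fun n x hx => ?_)
  · rintro _ ⟨p, rfl⟩
    induction p using DirectSum.Decomposition.inductionOn 𝒬 with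
    | zero => rw [map_zero]; exact Submodule.zero_mem _
    | add a b ha hb => rw [map_add]; exact Submodule.add_mem _ ha hb
    | @homogeneous n q =>
      refine le_iSup (fun n : ℤ => GrSeg.segrePiece k ℳ 𝒩 n) n ?_
      show φ q ∈ (GrSeg.segrePiece k ℳ 𝒩 n : Set (M ⊗[k] N))
      rw [← himg n]
      exact ⟨q, q.2, rfl⟩
  · have hx' : x ∈ φ '' (𝒬 n : Set P) := by rw [himg n]; exact hx
    obtain ⟨q, -, rfl⟩ := hx'
    exact ⟨q, rfl⟩

end Proj

section Act

variable (R S : Type u) [CommRing R] [CommRing S] [Algebra k R] [Algebra k S]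
  (M N : Type u) [AddCommGroup M] [Module R M] [Module k M] [IsScalarTower k R M]
  [AddCommGroup N] [Module S N] [Module k N] [IsScalarTower k S N]

/-- `GrSeg.act` as a homomorphism of algebras. -/
noncomputable def actHom : R ⊗[k] S →ₐ[k] Module.End k (M ⊗[k] N) :=
  AlgHom.ofLinearMap (GrSeg.act k R S M N)
    (by
      refine TensorProduct.ext' fun m n => ?_
      rw [Algebra.TensorProduct.one_def, GrSeg.act_tmul, one_smul, one_smul]
      rfl)
    (fun x y => by
      induction x using TensorProduct.induction_on with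
      | zero => simp
      | add a b ha hb => rw [add_mul, map_add, map_add, ha, hb, add_mul]
      | tmul r s =>
        induction y using TensorProduct.induction_on with
        | zero => simp
        | add a b ha hb => rw [mul_add, map_add, map_add, ha, hb, mul_add]
        | tmul r' s' =>
          refine TensorProduct.ext' fun m n => ?_
          rw [Algebra.TensorProduct.tmul_mul_tmul, GrSeg.act_tmul, Module.End.mul_apply, GrSeg.act_tmul,
            GrSeg.act_tmul, mul_smul, mul_smul])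

/-- The module structure of `M ⊗ N` over `R ⊗ S`. -/
@[reducible] noncomputable def tensorModule : Module (R ⊗[k] S) (M ⊗[k] N) :=
  Module.compHom (M ⊗[k] N) (actHom (k := k) R S M N).toRingHom

lemma tensorModule_finite [Module.Finite R M] [Module.Finite S N] :
    letI := tensorModule (k := k) R S M N
    Module.Finite (R ⊗[k] S) (M ⊗[k] N) := by
  classical
  letI := tensorModule (k := k) R S M N
  obtain ⟨gM, hM⟩ := Module.Finite.fg_top (R := R) (M := M)
  obtain ⟨gN, hN⟩ := Module.Finite.fg_top (R := S) (M := N)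
  refine ⟨⟨(gM ×ˢ gN).image (fun p => p.1 ⊗ₜ[k] p.2), Submodule.eq_top_iff'.2 fun x => ?_⟩⟩
  induction x using TensorProduct.induction_on with
  | zero => exact Submodule.zero_mem _
  | add a b ha hb => exact Submodule.add_mem _ ha hb
  | tmul m n =>
    have hm : m ∈ Submodule.span R (gM : Set M) := hM ▸ trivial
    have hn : n ∈ Submodule.span S (gN : Set N) := hN ▸ trivial
    induction hm using Submodule.span_induction with
    | zero => rw [TensorProduct.zero_tmul]; exact Submodule.zero_mem _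
    | add a b _ _ ha hb => rw [TensorProduct.add_tmul]; exact Submodule.add_mem _ ha hb
    | smul r a _ ha =>
      have e : (r • a) ⊗ₜ[k] n = (r ⊗ₜ[k] (1 : S)) • (a ⊗ₜ[k] n) :=
        ((GrSeg.act_tmul r (1 : S) a n).trans (by rw [one_smul])).symm
      rw [e]; exact Submodule.smul_mem _ _ ha
    | mem a ha =>
      induction hn using Submodule.span_induction with
      | zero => rw [TensorProduct.tmul_zero]; exact Submodule.zero_mem _
      | add c d _ _ hc hd => rw [TensorProduct.tmul_add]; exact Submodule.add_mem _ hc hd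
      | smul s c _ hc =>
        have e : a ⊗ₜ[k] (s • c) = ((1 : R) ⊗ₜ[k] s) • (a ⊗ₜ[k] c) :=
          ((GrSeg.act_tmul (1 : R) s a c).trans (by rw [one_smul])).symm
        rw [e]; exact Submodule.smul_mem _ _ hc
      | mem c hc => exact Submodule.subset_span (Finset.mem_image.2 ⟨(a, c), Finset.mem_product.2 ⟨ha, hc⟩, rfl⟩)

end Act

section Graded

variable {R : Type u} [CommRing R] [Algebra k R] (𝒜 : ℤ → Submodule k R) [GradedAlgebra 𝒜]
  {M : Type u} [AddCommGroup M] [Module R M] [Module k M] [IsScalarTower k R M]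
  {τ : Type u} [SetLike τ M] (ℳ : ℤ → τ) [SetLike.GradedSMul 𝒜 ℳ]

include 𝒜 in
lemma smul_mem_of_mem (c : k) (n : ℤ) (m : M) (hm : m ∈ ℳ n) : c • m ∈ ℳ n := by
  have h0 : algebraMap k R c ∈ 𝒜 0 := by
    rw [Algebra.algebraMap_eq_smul_one]
    exact (𝒜 0).smul_mem c SetLike.GradedOne.one_mem
  have h : algebraMap k R c • m ∈ ℳ ((0 : ℤ) +ᵥ n) := SetLike.GradedSMul.smul_mem h0 hm
  rwa [algebraMap_smul, vadd_eq_add, zero_add] at h

end Graded

section Reynolds

variable {R S : Type u} [CommRing R] [CommRing S] [Algebra k R] [Algebra k S]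
  (𝒜 : ℤ → Submodule k R) [GradedAlgebra 𝒜] (ℬ : ℤ → Submodule k S) [GradedAlgebra ℬ]
  {M N : Type u} [AddCommGroup M] [Module R M] [Module k M] [IsScalarTower k R M]
  [AddCommGroup N] [Module S N] [Module k N] [IsScalarTower k S N]
  {τ τ' : Type u} [SetLike τ M] [AddSubgroupClass τ M] [SetLike τ' N] [AddSubgroupClass τ' N]
  (ℳ : ℤ → τ) [DirectSum.Decomposition ℳ] [SetLike.GradedSMul 𝒜 ℳ]
  (𝒩 : ℤ → τ') [DirectSum.Decomposition 𝒩] [SetLike.GradedSMul ℬ 𝒩]

/-- The projection of `R ⊗ S` to its diagonal part. -/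
noncomputable def diagRing : R ⊗[k] S →ₗ[k] R ⊗[k] S :=
  diag 𝒜 ℬ (fun c n _ h => (𝒜 n).smul_mem c h) (fun c n _ h => (ℬ n).smul_mem c h)

/-- The projection of `M ⊗ N` to its diagonal part. -/
noncomputable def diagMod : M ⊗[k] N →ₗ[k] M ⊗[k] N :=
  diag ℳ 𝒩 (smul_mem_of_mem 𝒜 ℳ) (smul_mem_of_mem ℬ 𝒩)

lemma diag_act_of_mem_right (u : R ⊗[k] S) {x : M ⊗[k] N} (hx : x ∈ diagPart (k := k) ℳ 𝒩) :
    diagMod 𝒜 ℬ ℳ 𝒩 (GrSeg.act k R S M N u x) = GrSeg.act k R S M N (diagRing 𝒜 ℬ u) x := by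
  refine diagPart_induction ℳ 𝒩 (C := fun x => diagMod 𝒜 ℬ ℳ 𝒩 (GrSeg.act k R S M N u x) =
      GrSeg.act k R S M N (diagRing 𝒜 ℬ u) x) (by simp) (fun x y hx hy => by simp only [map_add, hx, hy])
    (fun c x hx => by simp only [map_smul, hx]) (fun n a b ha hb => ?_) hx
  induction u using homogeneous_induction 𝒜 ℬ with
  | h0 => simp
  | hadd x y hx hy => simp only [map_add, LinearMap.add_apply, hx, hy]
  | ht i j r s hr hs =>
    rw [GrSeg.act_tmul, diagMod, diagRing, diag_tmul _ _ _ _ hr hs,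
      diag_tmul _ _ _ _ (i := i + n) (j := j + n) (SetLike.GradedSMul.smul_mem hr ha) (SetLike.GradedSMul.smul_mem hs hb)]
    rcases eq_or_ne i j with rfl | hij
    · rw [if_pos rfl, if_pos rfl, GrSeg.act_tmul]
    · rw [if_neg hij, if_neg (by omega), map_zero, LinearMap.zero_apply]

lemma diag_act_of_mem_left {u : R ⊗[k] S} (hu : u ∈ diagPart (k := k) 𝒜 ℬ) (x : M ⊗[k] N) :
    diagMod 𝒜 ℬ ℳ 𝒩 (GrSeg.act k R S M N u x) = GrSeg.act k R S M N u (diagMod 𝒜 ℬ ℳ 𝒩 x) := by
  refine diagPart_induction 𝒜 ℬ (C := fun u => diagMod 𝒜 ℬ ℳ 𝒩 (GrSeg.act k R S M N u x) =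
      GrSeg.act k R S M N u (diagMod 𝒜 ℬ ℳ 𝒩 x)) (by simp)
    (fun x y hx hy => by simp only [map_add, LinearMap.add_apply, hx, hy])
    (fun c x hx => by simp only [map_smul, LinearMap.smul_apply, hx]) (fun n r s hr hs => ?_) hu
  induction x using homogeneous_induction ℳ 𝒩 with
  | h0 => simp
  | hadd x y hx hy => simp only [map_add, hx, hy]
  | ht i j a b ha hb =>
    rw [GrSeg.act_tmul, diagMod, diag_tmul _ _ _ _ ha hb,
      diag_tmul _ _ _ _ (i := n + i) (j := n + j) (SetLike.GradedSMul.smul_mem hr ha) (SetLike.GradedSMul.smul_mem hs hb)]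
    rcases eq_or_ne i j with rfl | hij
    · rw [if_pos rfl, if_pos rfl, GrSeg.act_tmul]
    · rw [if_neg hij, if_neg (by omega), map_zero]

lemma diagRing_mul_of_mem (u : R ⊗[k] S) {x : R ⊗[k] S} (hx : x ∈ diagPart (k := k) 𝒜 ℬ) :
    diagRing 𝒜 ℬ (u * x) = diagRing 𝒜 ℬ u * x := by
  refine diagPart_induction 𝒜 ℬ (C := fun x => diagRing 𝒜 ℬ (u * x) = diagRing 𝒜 ℬ u * x) (by simp)
    (fun x y hx hy => by simp only [mul_add, map_add, hx, hy])
    (fun c x hx => by rw [mul_smul_comm, map_smul, hx, mul_smul_comm]) (fun n a b ha hb => ?_) hx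
  induction u using homogeneous_induction 𝒜 ℬ with
  | h0 => simp
  | hadd x y hx hy => simp only [map_add, add_mul, hx, hy]
  | ht i j r s hr hs =>
    rw [Algebra.TensorProduct.tmul_mul_tmul, diagRing, diag_tmul _ _ _ _ hr hs,
      diag_tmul _ _ _ _ (i := i + n) (j := j + n) (SetLike.mul_mem_graded hr ha) (SetLike.mul_mem_graded hs hb)]
    rcases eq_or_ne i j with rfl | hij
    · rw [if_pos rfl, if_pos rfl, Algebra.TensorProduct.tmul_mul_tmul]
    · rw [if_neg hij, if_neg (by omega), zero_mul]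

end Reynolds

end SegreLib
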